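import Cfsg.Agent.H816.IMEig
import Cfsg.Agent.H625.SylConst

/-!
# `IMC p G` from spherical functions (helper796)

`G` acts on the finite set `X`; the irreducible constituent with spherical function `ω`.  A Sylow
`p`-subgroup `P` has an orbit `O` of size at most `|X|_p`; if all values of `ω` are larger than
`-1/(|X|_p - 1)`, the sum of `ω` over `O` is positive and the constituent has a vector fixed by `P`.

* `imc_of_col` : the version for `H816.IMEig`.
* `imc_of_col_exact` : all values at once, `p` divides the degree.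
-/

set_option autoImplicit false

namespace Cfsg.Agent.H796.Imc

open Cfsg Cfsg.Agent.Characters.Core Cfsg.Agent.H625.SylConst Cfsg.Agent.H816.IMEig Module
open scoped BigOperators

universe u v

/-- a fixed vector of a representation on any space -/
theorem fix_of_rep {G : Type u} [Group G] (P : Subgroup G) [Finite P] {V : Type v} [AddCommGroup V] [Module ℂ V]
    [FiniteDimensional ℂ V] (ρ : Representation ℂ G V) (x : V) (hx : x ≠ 0) (h : ∀ z ∈ P, ρ z x = x) :
    Fix P ρ.character := by
  rw [← character_transportRep (Module.finBasis ℂ V).equivFun ρ, fix_iff_exists]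
  refine ⟨(Module.finBasis ℂ V).equivFun x, fun h0 => hx ?_, fun z hz => ?_⟩
  · exact (LinearEquiv.map_eq_zero_iff _).1 h0
  · rw [transportRep_apply, LinearEquiv.conj_apply_apply, LinearEquiv.symm_apply_apply, h z hz]

/-- A `p`-group has an orbit of size dividing `p ^ n`, if `p ^ (n + 1)` does not divide the number of points. -/
theorem exists_orbit {p n : ℕ} [hp : Fact p.Prime] {P : Type u} [Group P] [Finite P] (hP : IsPGroup p P)
    {X : Type v} [Finite X] [MulAction P X] (hn : ¬ p ^ (n + 1) ∣ Nat.card X) :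
    ∃ x : X, Nat.card P ≤ p ^ n * Nat.card (MulAction.stabilizer P x) := by
  classical
  by_contra hcon
  push Not at hcon
  apply hn
  have := Fintype.ofFinite X
  have := Fintype.ofFinite (MulAction.orbitRel.Quotient P X)
  have h1 : ∀ x : X, p ^ (n + 1) ∣ Nat.card (MulAction.orbit P x) := by
    intro x
    have h2 : Nat.card (MulAction.orbit P x) = (MulAction.stabilizer P x).index := by
      rw [MulAction.index_stabilizer]
      rfl
    have h3 := (MulAction.stabilizer P x).card_mul_index
    have h4 := hcon x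
    obtain ⟨k, hk⟩ := hP.index (MulAction.stabilizer P x)
    rw [h2, hk]
    apply pow_dvd_pow
    by_contra hlt
    have h5 : k ≤ n := by omega
    have h6 : p ^ k ≤ p ^ n := Nat.pow_le_pow_right hp.out.pos h5
    rw [← h3, hk, mul_comm (p ^ n)] at h4
    exact absurd h4 (not_lt.2 (Nat.mul_le_mul_left _ h6))
  have e := Nat.card_congr (MulAction.selfEquivSigmaOrbits P X)
  rw [e, Nat.card_sigma]
  refine Finset.dvd_sum fun ω _ => ?_
  exact h1 _

variable {G : Type u} [Group G] {X : Type v} [MulAction G X] {ι : Type} [Fintype ι] [DecidableEq ι]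
  {c : X → X → ι} {o : ι}

/-- **`IMC p G` from a spherical function.** -/
theorem imc_of_col [Finite G] [Finite X] (h : Col G X ι c o) {x₀ z₀ : X} {t : ι → ι → ℕ} {θ : ℂ}
    {ω : ι → ℂ} (ht : ∀ u w, Nat.card {y // c x₀ y = u ∧ c z₀ y = w} = t u w) (hE : Col.Eig (c x₀ z₀) o t θ ω)
    {f : ℕ} (hf : (f : ℂ) * ∑ u, ((∑ w, t u w : ℕ) : ℂ) * ω u ^ 2 = (Nat.card X : ℂ))
    {p : ℕ} [hp : Fact p.Prime] (hpf : p ∣ f) (n : ℕ) (hn : ¬ p ^ (n + 1) ∣ Nat.card X)
    (q : ι → ℚ) (hq : ∀ u, ω u = (q u : ℂ)) (hpos : ∀ u, u ≠ o → -1 < ((p : ℚ) ^ n - 1) * q u) :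
    IMC p G := by
  classical
  have hXf := Fintype.ofFinite X
  have hX : (Nat.card X : ℂ) ≠ 0 := by
    have : Nonempty X := ⟨x₀⟩
    exact_mod_cast (Nat.card_pos (α := X)).ne'
  have hS : Col.SS t ω ≠ 0 := by
    intro h0
    unfold Col.SS at h0
    rw [h0, mul_zero] at hf
    exact hX hf.symm
  obtain ⟨P⟩ : Nonempty (Sylow p G) := inferInstance
  have hPf : Fintype P := Fintype.ofFinite P
  obtain ⟨y, hy⟩ := exists_orbit (p := p) (n := n) (P := P) P.isPGroup' (X := X) hn
  let ρ := (h.sub ω).toRepresentation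
  have hmem : ∀ z : X, Col.ee c ω z ∈ (h.sub ω).toSubmodule := fun z => Submodule.subset_span ⟨_, rfl⟩
  let ev : X → (h.sub ω).toSubmodule := fun z => ⟨Col.ee c ω z, hmem z⟩
  have hρ : ∀ (g : G) (z : X), ρ g (ev z) = ev (g • z) := by
    intro g z
    exact Subtype.ext (h.prep_ee ω g z)
  let w : (h.sub ω).toSubmodule := ∑ g : P, ev ((g : G) • y)
  have hw : ∀ z ∈ (P : Subgroup G), ρ z w = w := by
    intro z hz
    show ρ z (∑ g : P, ev ((g : G) • y)) = ∑ g : P, ev ((g : G) • y)
    rw [map_sum]
    refine Fintype.sum_equiv (Equiv.mulLeft (⟨z, hz⟩ : P)) _ _ fun g => ?_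
    rw [hρ, Equiv.coe_mulLeft, Subgroup.coe_mul, mul_smul]
  have hwy : (w : X → ℂ) y = ((∑ g : P, q (c y ((g : G) • y)) : ℚ) : ℂ) := by
    show ((∑ g : P, ev ((g : G) • y) : (h.sub ω).toSubmodule) : X → ℂ) y = _
    rw [AddSubmonoidClass.coe_finsetSum, Finset.sum_apply, Rat.cast_sum]
    refine Finset.sum_congr rfl fun g _ => ?_
    show ω (c y ((g : G) • y)) = _
    rw [hq]
  have hpos' : 0 < ∑ g : P, q (c y ((g : G) • y)) := by
    have hqo : q o = 1 := by
      have h1 := hE.one
      rw [hq] at h1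
      exact_mod_cast h1
    -- the stabilizer
    set A : Finset P := Finset.univ.filter (fun g : P => (g : G) • y = y) with hA
    have hAc : A.card = Nat.card (MulAction.stabilizer P y) := by
      have h2 : Nat.card {g : P // (g : G) • y = y} = A.card := by
        rw [Nat.card_eq_fintype_card]
        exact Fintype.card_subtype _
      exact h2.symm
    have h1 : ∑ g ∈ A, q (c y ((g : G) • y)) = A.card := by
      have h2 : ∀ g ∈ A, q (c y ((g : G) • y)) = 1 := by
        intro g hg
        rw [(Finset.mem_filter.1 hg).2, h.self, hqo]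
      rw [Finset.sum_congr rfl h2, Finset.sum_const, nsmul_eq_mul, mul_one]
    have hsplit := Finset.sum_filter_add_sum_filter_not (Finset.univ : Finset P)
      (fun g : P => (g : G) • y = y) (fun g : P => q (c y ((g : G) • y)))
    set B : Finset P := Finset.univ.filter (fun g : P => ¬ (g : G) • y = y) with hB
    have hcard : A.card + B.card = Nat.card P := by
      have h2 := Finset.card_filter_add_card_filter_not (s := (Finset.univ : Finset P)) (fun g : P => (g : G) • y = y)
      rw [Finset.card_univ, ← Nat.card_eq_fintype_card] at h2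
      exact h2
    have hsplit' : ∑ g ∈ A, q (c y ((g : G) • y)) + ∑ g ∈ B, q (c y ((g : G) • y)) =
        ∑ g : P, q (c y ((g : G) • y)) := hsplit
    rw [← hsplit', h1]
    have hA0 : 0 < A.card := Finset.card_pos.2 ⟨1, Finset.mem_filter.2 ⟨Finset.mem_univ _, by
      rw [Subgroup.coe_one, one_smul]⟩⟩
    have hBq : ∀ g ∈ B, c y ((g : G) • y) ≠ o := by
      intro g hg h0
      exact (Finset.mem_filter.1 hg).2 ((h.diag _ _).1 h0).symm
    rcases B.eq_empty_or_nonempty with hBe | hBne
    · rw [hBe, Finset.sum_empty, add_zero]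
      exact_mod_cast hA0
    · have hN : (0 : ℚ) < (p : ℚ) ^ n - 1 := by
        have h3 : 0 < B.card := Finset.card_pos.2 hBne
        have h4 : A.card < p ^ n * A.card := by
          rw [hAc] at hcard ⊢
          omega
        have h5 : 1 < p ^ n := by
          by_contra hlt
          have h6 : p ^ n ≤ 1 := not_lt.1 hlt
          have h7 := Nat.mul_le_mul_right A.card h6
          omega
        have h6 : (1 : ℚ) < (p : ℚ) ^ n := by exact_mod_cast h5
        linarith
      have h3 : ∑ g ∈ B, (-1 : ℚ) < ∑ g ∈ B, ((p : ℚ) ^ n - 1) * q (c y ((g : G) • y)) :=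
        Finset.sum_lt_sum_of_nonempty hBne fun g hg => hpos _ (hBq g hg)
      rw [Finset.sum_const, nsmul_eq_mul, ← Finset.mul_sum] at h3
      have h4 : (B.card : ℚ) ≤ ((p : ℚ) ^ n - 1) * A.card := by
        have h5 : A.card + B.card ≤ p ^ n * A.card := by
          rw [hcard]
          refine hy.trans_eq ?_
          rw [hAc]
        have h6 : ((A.card : ℕ) : ℚ) + (B.card : ℕ) ≤ (p : ℚ) ^ n * (A.card : ℕ) := by exact_mod_cast h5
        linarith
      have h5 : 0 < ((p : ℚ) ^ n - 1) * ((A.card : ℚ) + ∑ g ∈ B, q (c y ((g : G) • y))) := by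
        rw [mul_add]
        linarith
      exact (mul_pos_iff_of_pos_left hN).1 h5
  have hw0 : w ≠ 0 := by
    intro h0
    rw [h0] at hwy
    have h1 : ((∑ g : P, q (c y ((g : G) • y)) : ℚ) : ℂ) = 0 := hwy.symm
    have h2 : (∑ g : P, q (c y ((g : G) • y)) : ℚ) = 0 := by exact_mod_cast h1
    exact hpos'.ne' h2
  refine ⟨⟨_, isIrrCharacter_of_rep ρ (h.irr ht hE)⟩, P, ?_, fix_of_rep (P : Subgroup G) ρ w hw0 hw⟩
  have h1 : ρ.character 1 = f := by
    rw [Representation.char_one]
    have h1 := h.finrank_mul ht hE hS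
    rw [← Nat.card_eq_fintype_card, ← hf] at h1
    exact mul_right_cancel₀ hS h1
  have h2 : charDegree ρ.character = f := Cfsg.Agent.H670.PSing.charDegree_eq_of h1
  show p ∣ charDegree ρ.character
  rw [h2]
  exact hpf

end Cfsg.Agent.H796.Imc
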