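import Cfsg.Agent.H816.IMM
import Cfsg.Agent.H796.Imc.Sph

/-!
# The row `IMC p M` of the Monster, all primes (helper796)

The nine constituents of the permutation character of rank nine (helper816) with their spherical functions, and
`imc_of_col`.
-/

set_option autoImplicit false
set_option maxRecDepth 100000

namespace Cfsg.Agent.H796.Imc.RowM

open Cfsg Cfsg.Agent.MonsterX.InstData Cfsg.Agent.H625.SylConst
open Cfsg.Agent.H816.MEigL Cfsg.Agent.H816.MSch Cfsg.Agent.H816.MDeg

universe u

theorem imc_dat {P : Fin 9 → Fin 9 → ℤ} {θ D : ℤ} {ω : Fin 9 → ℤ} {R : Fin 9 → Fin 9 → ℤ} {r : Fin 9 → ℤ} {f : ℕ}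
    (h : Dat t k P 2 θ D ω R r 97239461142009186000 f) {p : ℕ} [hp : Fact p.Prime] (hpf : p ∣ f) (n : ℕ)
    (hn : ¬ p ^ (n + 1) ∣ 97239461142009186000) (hD : 0 < D)
    (hpos : ∀ u : Fin 9, u ≠ 0 → -D < ((p : ℤ) ^ n - 1) * ω u) : IMC p ↥M.G := by
  have := finite_G
  have hE := h.toEig
  have hd := h.toDeg
  rw [← c_b1] at hE
  have hD' : (0 : ℚ) < (D : ℚ) := by exact_mod_cast hD
  refine imc_of_col isCol tt_eq hE (f := f) (by rw [card_XT]; exact hd) hpf n (by rw [card_XT]; exact hn)
    (fun u => (ω u : ℚ) / (D : ℚ)) (fun u => by push_cast; rfl) fun u hu => ?_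
  have h1 := hpos u hu
  have h2 : -(D : ℚ) < ((p : ℚ) ^ n - 1) * (ω u : ℚ) := by exact_mod_cast h1
  rw [← mul_div_assoc, lt_div_iff₀ hD']
  linarith

theorem imc_model {p : ℕ} [hp : Fact p.Prime] (hd : p ∣ 808017424794512875886459904961710757005754368000000000) :
    IMC p ↥M.G := by
  have h1 := Cfsg.Agent.H816.IMM.prime_mem hp.out hd
  clear hd
  simp only [List.mem_cons, List.not_mem_nil, or_false] at h1
  rcases h1 with rfl | rfl | rfl | rfl | rfl | rfl | rfl | rfl | rfl | rfl | rfl | rfl | rfl | rfl | rfl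
  · exact imc_dat dat_842609326 (by norm_num) 4 (by norm_num) (by norm_num) (by decide +kernel)
  · exact imc_dat dat_36173193327999 (by norm_num) 7 (by norm_num) (by norm_num) (by decide +kernel)
  · exact imc_dat dat_1109944460516150 (by norm_num) 3 (by norm_num) (by norm_num) (by decide +kernel)
  · exact imc_dat dat_36173193327999 (by norm_num) 4 (by norm_num) (by norm_num) (by decide +kernel)
  · exact imc_dat dat_18538750076 (by norm_num) 1 (by norm_num) (by norm_num) (by decide +kernel)
  · exact imc_dat dat_842609326 (by norm_num) 2 (by norm_num) (by norm_num) (by decide +kernel)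
  · exact imc_dat dat_36173193327999 (by norm_num) 0 (by norm_num) (by norm_num) (by decide +kernel)
  · exact imc_dat dat_36173193327999 (by norm_num) 0 (by norm_num) (by norm_num) (by decide +kernel)
  · exact imc_dat dat_18538750076 (by norm_num) 0 (by norm_num) (by norm_num) (by decide +kernel)
  · exact imc_dat dat_842609326 (by norm_num) 1 (by norm_num) (by norm_num) (by decide +kernel)
  · exact imc_dat dat_842609326 (by norm_num) 0 (by norm_num) (by norm_num) (by decide +kernel)
  · exact imc_dat dat_18538750076 (by norm_num) 1 (by norm_num) (by norm_num) (by decide +kernel)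
  · exact imc_dat dat_842609326 (by norm_num) 0 (by norm_num) (by norm_num) (by decide +kernel)
  · exact imc_dat dat_842609326 (by norm_num) 1 (by norm_num) (by norm_num) (by decide +kernel)
  · exact imc_dat dat_36173193327999 (by norm_num) 1 (by norm_num) (by norm_num) (by decide +kernel)

/-- **The row `M` of S4526.** -/
theorem imc_m {S : Type u} [Group S] [Finite S] (h : Cfsg.Spor.IsoM S) {p : ℕ} [hp : Fact p.Prime]
    (hd : p ∣ Nat.card S) : IMC p S := by
  rw [Cfsg.Agent.H816.IMM.card_eq h] at hd
  obtain ⟨e⟩ := Cfsg.Agent.H816.IMM.exists_equiv h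
  exact IMC.of_equiv e (imc_model hd)

end Cfsg.Agent.H796.Imc.RowM
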